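import Cfsg.Agent.H629.T9.Defs
import Cfsg.Agent.H684.Principal

/-!
# The rows `QRow` (S4876, `|P| = 9`): criteria (helper596)

* `qrow_of` : from elements `s, t, f, h`;
* `qrow_mat` : from the matrices of `3^(1+2) : Q₈` in a group of `3 × 3` matrices.
-/

set_option autoImplicit false

open Subgroup

namespace Cfsg.Agent.H596.T9

open Cfsg Cfsg.Agent.H629.T9

universe u v

section group

variable {X : Type u} [Group X]

theorem pow_three_closure {s t : X} (hs : s ^ 3 = 1) (ht : t ^ 3 = 1) (hst : s * t = t * s) {z : X}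
    (hz : z ∈ closure ({s, t} : Set X)) : z ^ 3 = 1 := by
  have hc : ∀ x ∈ closure ({s, t} : Set X), ∀ y ∈ closure ({s, t} : Set X), x * y = y * x := by
    have h1 : closure ({s, t} : Set X) ≤ centralizer ({s, t} : Set X) := by
      rw [closure_le]
      intro x hx
      rw [SetLike.mem_coe, mem_centralizer_iff]
      intro y hy
      rcases hx with rfl | hx <;> rcases hy with rfl | hy
      · rfl
      · obtain rfl : y = t := hy
        exact hst.symm
      · obtain rfl : x = t := hx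
        exact hst
      · obtain rfl : x = t := hx
        obtain rfl : y = x := hy
        rfl
    have h2 : closure ({s, t} : Set X) ≤ centralizer (closure ({s, t} : Set X) : Set X) := by
      rw [closure_le]
      intro x hx
      rw [SetLike.mem_coe, mem_centralizer_iff]
      intro y hy
      exact ((mem_centralizer_iff.1 (h1 hy)) x hx).symm
    intro x hx y hy
    exact ((mem_centralizer_iff.1 (h2 hx)) y hy).symm
  refine closure_induction (p := fun z _ => z ^ 3 = 1) ?_ (one_pow 3) ?_ ?_ hz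
  · rintro x (rfl | hx)
    · exact hs
    · obtain rfl : x = t := hx
      exact ht
  · intro x y hx hy h1 h2
    rw [(show Commute x y from hc x hx y hy).mul_pow, h1, h2, one_mul]
  · intro x _ h1
    rw [inv_pow, h1, inv_one]

/-- **The criterion.** -/
theorem qrow_of [Finite X] (h9 : (Nat.card X).factorization 3 = 2) {s t f h : X} (hs : s ^ 3 = 1) (ht : t ^ 3 = 1)
    (hs1 : s ≠ 1) (hst : s * t = t * s) (hts : t ∉ zpowers s) (f1 : f * s * f⁻¹ = t⁻¹) (f2 : f * t * f⁻¹ = s)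
    (h1 : h * s * h⁻¹ = s⁻¹ * t⁻¹) (h2 : h * t * h⁻¹ = s⁻¹ * t)
    (hC : ∀ z : X, z * s = s * z → z * t = t * z → z ^ 3 = 1)
    (hdeg : ∃ θ : IrrCharacter X, charDegree (θ : X → ℂ) % 9 = 2 ∨ charDegree (θ : X → ℂ) % 9 = 7) : QRow X := by
  have : Fact (Nat.Prime 3) := ⟨Nat.prime_three⟩
  set Q : Subgroup X := closure ({s, t} : Set X) with hQ
  have hsQ : s ∈ Q := subset_closure (Set.mem_insert _ _)
  have htQ : t ∈ Q := subset_closure (Set.mem_insert_of_mem _ rfl)
  have hQp : IsPGroup 3 Q := by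
    intro z
    refine ⟨1, ?_⟩
    apply Subtype.ext
    rw [pow_one]
    exact pow_three_closure hs ht hst z.2
  obtain ⟨P, hP⟩ := hQp.exists_le_sylow
  have hPc : Nat.card (P : Subgroup X) = 9 := by rw [P.card_eq_multiplicity, h9]; norm_num
  have hs3 : orderOf s = 3 := orderOf_eq_prime hs hs1
  have hQc : Nat.card Q = 9 := by
    have h3 : Nat.card Q ∣ 9 := hPc ▸ Subgroup.card_dvd_of_le hP
    have h4 : zpowers s < Q := by
      refine lt_of_le_of_ne (zpowers_le.2 hsQ) ?_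
      intro h
      exact hts (h ▸ htQ)
    have h5 : Nat.card (zpowers s) = 3 := by rw [Nat.card_zpowers, hs3]
    have h6 : Nat.card (zpowers s) < Nat.card Q := by
      by_contra hcon
      exact h4.ne (Subgroup.eq_of_le_of_card_ge h4.le (not_lt.1 hcon))
    rw [h5] at h6
    have h7 : Nat.card Q ∈ Nat.divisors 9 := Nat.mem_divisors.2 ⟨h3, by norm_num⟩
    have h8 : Nat.divisors 9 = {1, 3, 9} := by decide
    rw [h8] at h7
    simp only [Finset.mem_insert, Finset.mem_singleton] at h7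
    omega
  have hPQ : (P : Subgroup X) = Q := (Subgroup.eq_of_le_of_card_ge hP (by rw [hPc, hQc])).symm
  have hnorm : ∀ x : X, x * s * x⁻¹ ∈ Q → x * t * x⁻¹ ∈ Q → x ∈ normalizer (Q : Set X) := by
    intro x hx1 hx2
    have h3 : Q.map (MulAut.conj x).toMonoidHom ≤ Q := by
      rw [hQ, MonoidHom.map_closure, closure_le]
      rintro y ⟨z, hz, rfl⟩
      rcases hz with rfl | hz
      · exact hx1
      · obtain rfl : z = t := hz
        exact hx2
    have h4 : Q.map (MulAut.conj x).toMonoidHom = Q := by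
      refine Subgroup.eq_of_le_of_card_ge h3 ?_
      rw [Subgroup.card_map_of_injective (MulAut.conj x).injective]
    rw [mem_normalizer_iff]
    intro y
    constructor
    · intro hy
      exact h3 ⟨y, hy, rfl⟩
    · intro hy
      change y ∈ Q
      have h5 : x * y * x⁻¹ ∈ Q.map (MulAut.conj x).toMonoidHom := by rw [h4]; exact hy
      obtain ⟨z, hz, hz'⟩ := h5
      have h6 : x * z * x⁻¹ = x * y * x⁻¹ := hz'
      have h7 : z = y := mul_left_cancel (mul_right_cancel h6)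
      exact h7 ▸ hz
  have hfN : f ∈ normalizer (Q : Set X) := hnorm f (by rw [f1]; exact Q.inv_mem htQ) (by rw [f2]; exact hsQ)
  have hhN : h ∈ normalizer (Q : Set X) := hnorm h (by rw [h1]; exact Q.mul_mem (Q.inv_mem hsQ) (Q.inv_mem htQ))
    (by rw [h2]; exact Q.mul_mem (Q.inv_mem hsQ) htQ)
  -- the centralizer is a `3`-group
  have hCp : IsPGroup 3 (centralizer (Q : Set X)) := by
    intro z
    refine ⟨1, ?_⟩
    apply Subtype.ext
    rw [pow_one]
    have h3 := mem_centralizer_iff.1 z.2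
    exact hC z (h3 s hsQ).symm (h3 t htQ).symm
  refine ⟨⟨P, f, by rw [hPQ]; exact hfN, h, by rw [hPQ]; exact hhN, ?_⟩, ?_⟩
  · rw [hPQ]
    intro hc
    have h3 : s * (f * h * f⁻¹ * h⁻¹) = f * h * f⁻¹ * h⁻¹ * s := mem_centralizer_iff.1 hc s hsQ
    -- the commutator inverts `s`
    have e1 : h⁻¹ * (s⁻¹ * t⁻¹) * h = s := by rw [← h1]; group
    have e2 : h⁻¹ * (s⁻¹ * t) * h = t := by rw [← h2]; group
    have e3 : f⁻¹ * t⁻¹ * f = s := by rw [← f1]; group
    have e4 : f⁻¹ * s * f = t := by rw [← f2]; group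
    have ht2 : t * t = t⁻¹ := by
      rw [eq_inv_iff_mul_eq_one, ← ht]; rw [pow_succ, pow_two]
    have hs2 : s⁻¹ * s⁻¹ = s := by
      have : s * s * s = 1 := by rw [← hs, pow_succ, pow_two]
      calc s⁻¹ * s⁻¹ = s⁻¹ * s⁻¹ * (s * s * s) := by rw [this, mul_one]
        _ = s := by group
    -- `h⁻¹ s h = s t`
    have hcomm : Commute s t := hst
    have e5 : h⁻¹ * s * h = s * t := by
      calc h⁻¹ * s * h = h⁻¹ * (s⁻¹ * s⁻¹) * h := by rw [hs2]
        _ = h⁻¹ * ((s⁻¹ * t⁻¹) * (s⁻¹ * t)) * h := by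
            congr 2
            have : t⁻¹ * s⁻¹ = s⁻¹ * t⁻¹ := (hcomm.inv_inv).eq.symm
            calc s⁻¹ * s⁻¹ = s⁻¹ * (s⁻¹ * t⁻¹) * t := by group
              _ = s⁻¹ * (t⁻¹ * s⁻¹) * t := by rw [this]
              _ = _ := by group
        _ = (h⁻¹ * (s⁻¹ * t⁻¹) * h) * (h⁻¹ * (s⁻¹ * t) * h) := by group
        _ = s * t := by rw [e1, e2]
    have e6 : (f * h * f⁻¹ * h⁻¹) * s * (f * h * f⁻¹ * h⁻¹)⁻¹ = s⁻¹ := by
      calc (f * h * f⁻¹ * h⁻¹) * s * (f * h * f⁻¹ * h⁻¹)⁻¹ = f * (h * (f⁻¹ * (h⁻¹ * s * h) * f) * h⁻¹) * f⁻¹ := by group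
        _ = f * (h * (f⁻¹ * (s * t) * f) * h⁻¹) * f⁻¹ := by rw [e5]
        _ = f * (h * ((f⁻¹ * s * f) * (f⁻¹ * t⁻¹ * f)⁻¹) * h⁻¹) * f⁻¹ := by group
        _ = f * (h * (t * s⁻¹) * h⁻¹) * f⁻¹ := by rw [e4, e3]
        _ = f * ((h * t * h⁻¹) * (h * s * h⁻¹)⁻¹) * f⁻¹ := by group
        _ = f * ((s⁻¹ * t) * (s⁻¹ * t⁻¹)⁻¹) * f⁻¹ := by rw [h1, h2]
        _ = f * (s⁻¹ * (t * t) * s) * f⁻¹ := by group
        _ = f * (s⁻¹ * t⁻¹ * s) * f⁻¹ := by rw [ht2]
        _ = f * t⁻¹ * f⁻¹ := by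
            congr 2
            rw [(hcomm.inv_inv).eq]
            group
        _ = (f * t * f⁻¹)⁻¹ := by group
        _ = s⁻¹ := by rw [f2]
    have e7 : (f * h * f⁻¹ * h⁻¹) * s * (f * h * f⁻¹ * h⁻¹)⁻¹ = s := by rw [← h3]; group
    have e8 : s⁻¹ = s := e6.symm.trans e7
    apply hs1
    have e9 : s * s = 1 := by nth_rewrite 1 [← e8]; exact inv_mul_cancel s
    have e10 : s ^ 3 = s := by rw [pow_succ, pow_two, e9, one_mul]
    rw [← e10, hs]
  · intro M hM
    obtain ⟨θ, hθ⟩ := hdeg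
    refine ⟨θ, H684.Principal.mem_of_not_dvd hM hQp hCp θ ?_, hθ⟩
    intro h3
    obtain ⟨c, hc⟩ := h3
    rcases hθ with h | h <;> omega

end group

end Cfsg.Agent.H596.T9
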