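import Cfsg.Agent.H596.T9.Base

/-!
# The matrices of `3^(1+2) : Q₈` (helper596)
-/

set_option autoImplicit false

open Subgroup Matrix

namespace Cfsg.Agent.H596.T9

open Cfsg Cfsg.Agent.H629.T9

universe u v

section mat

variable {F : Type*} [Field F]

def mA (w : F) : Matrix (Fin 3) (Fin 3) F := !![1, 0, 0; 0, w, 0; 0, 0, w ^ 2]

def mB (F : Type*) [Field F] : Matrix (Fin 3) (Fin 3) F := !![0, 0, 1; 1, 0, 0; 0, 1, 0]

def mF (w c : F) : Matrix (Fin 3) (Fin 3) F := !![c, c, c; c, c * w, c * w ^ 2; c, c * w ^ 2, c * w]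

def mH (w c : F) : Matrix (Fin 3) (Fin 3) F := !![c, c, c * w ^ 2; c, c * w, c * w; c * w, c, c * w]

theorem det_mA {w : F} (hw : w ^ 2 + w + 1 = 0) : (mA w).det = 1 := by
  rw [mA, det_fin_three]; simp; linear_combination (w - 1) * hw

theorem det_mB : (mB F).det = 1 := by
  rw [mB, det_fin_three]; simp

theorem det_mF {w c : F} (hw : w ^ 2 + w + 1 = 0) (hc : c * (w - w ^ 2) = 1) : (mF w c).det = 1 := by
  rw [mF, det_fin_three]; simp
  grind

theorem det_mH {w c : F} (hw : w ^ 2 + w + 1 = 0) (hc : c * (w - w ^ 2) = 1) : (mH w c).det = 1 := by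
  rw [mH, det_fin_three]; simp
  grind

theorem A3 {w : F} (hw : w ^ 2 + w + 1 = 0) : mA w * mA w * mA w = 1 := by
  ext i j
  fin_cases i <;> fin_cases j <;> simp [mA, Matrix.mul_apply, Fin.sum_univ_three, one_apply] <;> grind

theorem B3 : mB F * mB F * mB F = 1 := by
  ext i j
  fin_cases i <;> fin_cases j <;> simp [mB, Matrix.mul_apply, Fin.sum_univ_three, one_apply]

theorem AB {w : F} (hw : w ^ 2 + w + 1 = 0) : mA w * mB F = w • (mB F * mA w) := by
  ext i j
  fin_cases i <;> fin_cases j <;> simp [mA, mB, Matrix.mul_apply, Fin.sum_univ_three] <;> grind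

theorem BFA {w c : F} (hw : w ^ 2 + w + 1 = 0) : mB F * mF w c * mA w = mF w c := by
  ext i j
  fin_cases i <;> fin_cases j <;> simp [mA, mB, mF, Matrix.mul_apply, Fin.sum_univ_three] <;> grind

theorem FB {w c : F} (hw : w ^ 2 + w + 1 = 0) : mF w c * mB F = mA w * mF w c := by
  ext i j
  fin_cases i <;> fin_cases j <;> simp [mA, mB, mF, Matrix.mul_apply, Fin.sum_univ_three] <;> grind

theorem BAHA {w c : F} (hw : w ^ 2 + w + 1 = 0) : mB F * mA w * mH w c * mA w = mH w c := by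
  ext i j
  fin_cases i <;> fin_cases j <;> simp [mA, mB, mH, Matrix.mul_apply, Fin.sum_univ_three] <;> grind

theorem AHB {w c : F} (hw : w ^ 2 + w + 1 = 0) : mA w * mH w c * mB F = w ^ 2 • (mB F * mH w c) := by
  ext i j
  fin_cases i <;> fin_cases j <;> simp [mA, mB, mH, Matrix.mul_apply, Fin.sum_univ_three] <;> grind

theorem w_ne_one {w : F} (hw : w ^ 2 + w + 1 = 0) (h3 : (3 : F) ≠ 0) : w ≠ 1 := by
  rintro rfl
  apply h3
  linear_combination hw

theorem w_cube {w : F} (hw : w ^ 2 + w + 1 = 0) : w ^ 3 = 1 := by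
  linear_combination (w - 1) * hw

/-- matrices commuting with `A` and `B` are scalar -/
theorem scalar_of_comm {w : F} (hw : w ^ 2 + w + 1 = 0) (h3 : (3 : F) ≠ 0) {M : Matrix (Fin 3) (Fin 3) F}
    (h1 : M * mA w = mA w * M) (h2 : M * mB F = mB F * M) : M = M 0 0 • 1 := by
  have hw1 := w_ne_one hw h3
  have hw0 : w ≠ 0 := by rintro rfl; simp at hw
  have hw2 : w ^ 2 ≠ 1 := by
    intro h
    have h4 : w ^ 3 = 1 := w_cube hw
    apply hw1
    have : w ^ 3 = w := by rw [pow_succ, h, one_mul]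
    rw [← this, h4]
  have hw3 : w ^ 2 ≠ w := by
    intro h
    rw [pow_two] at h
    exact hw1 (mul_left_cancel₀ hw0 (h.trans (mul_one w).symm))
  have e : ∀ i j, (M * mA w) i j = (mA w * M) i j := fun i j => by rw [h1]
  have g : ∀ i j, (M * mB F) i j = (mB F * M) i j := fun i j => by rw [h2]
  have e01 := e 0 1
  have e02 := e 0 2
  have e10 := e 1 0
  have e12 := e 1 2
  have e20 := e 2 0
  have e21 := e 2 1
  have g10 := g 1 0
  have g21 := g 2 1
  simp [mA, Matrix.mul_apply, Fin.sum_univ_three] at e01 e02 e10 e12 e20 e21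
  simp [mB, Matrix.mul_apply, Fin.sum_univ_three] at g10 g21
  have z01 : M 0 1 = 0 := by
    have : M 0 1 * (w - 1) = 0 := by linear_combination e01
    exact (mul_eq_zero.1 this).resolve_right (sub_ne_zero.2 hw1)
  have z02 : M 0 2 = 0 := by
    have : M 0 2 * (w ^ 2 - 1) = 0 := by linear_combination e02
    exact (mul_eq_zero.1 this).resolve_right (sub_ne_zero.2 hw2)
  have z10 : M 1 0 = 0 := by
    have : M 1 0 * (w - 1) = 0 := by linear_combination -e10
    exact (mul_eq_zero.1 this).resolve_right (sub_ne_zero.2 hw1)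
  have z20 : M 2 0 = 0 := by
    have : M 2 0 * (w ^ 2 - 1) = 0 := by linear_combination -e20
    exact (mul_eq_zero.1 this).resolve_right (sub_ne_zero.2 hw2)
  have z12 : M 1 2 = 0 := by
    have : M 1 2 * (w ^ 2 - w) = 0 := by linear_combination e12
    exact (mul_eq_zero.1 this).resolve_right (sub_ne_zero.2 hw3)
  have z21 : M 2 1 = 0 := by
    have : M 2 1 * (w ^ 2 - w) = 0 := by linear_combination -e21
    exact (mul_eq_zero.1 this).resolve_right (sub_ne_zero.2 hw3)
  ext i j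
  fin_cases i <;> fin_cases j <;> simp [z01, z02, z10, z20, z12, z21, g10, g21]

theorem mA_pow (w : F) (n : ℕ) : (mA w ^ n) 1 0 = 0 := by
  have h : mA w = diagonal ![1, w, w ^ 2] := by
    ext i j
    fin_cases i <;> fin_cases j <;> simp [mA]
  rw [h, diagonal_pow]
  simp

/-- **The criterion in a group of `3 × 3` matrices.** -/
theorem qrow_mat {K : Type*} [Group K] {X : Type u} [Group X] [Finite X]
    (ι : K →* Matrix (Fin 3) (Fin 3) F) (hdet : ∀ k, (ι k).det = 1) (π : K →* X)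
    (hπ : Function.Surjective π) (hker : ∀ k : K, π k = 1 ↔ ∃ c : F, ι k = c • 1)
    {w c : F} (hw : w ^ 2 + w + 1 = 0) (h3 : (3 : F) ≠ 0)
    (hA : ∃ a : K, ι a = mA w) (hB : ∃ a : K, ι a = mB F) (hF : ∃ a : K, ι a = mF w c) (hH : ∃ a : K, ι a = mH w c)
    (h9 : (Nat.card X).factorization 3 = 2)
    (hdeg : ∃ θ : IrrCharacter X, charDegree (θ : X → ℂ) % 9 = 2 ∨ charDegree (θ : X → ℂ) % 9 = 7) : QRow X := by
  obtain ⟨a, ha⟩ := hA
  obtain ⟨b, hb⟩ := hB
  obtain ⟨f, hf⟩ := hF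
  obtain ⟨h, hh⟩ := hH
  have hw1 := w_ne_one hw h3
  have hw3 := w_cube hw
  -- equality up to scalars
  have heq : ∀ (x y : K) (d : F), ι x = d • ι y → π x = π y := by
    intro x y d hd
    have h1 : π (x * y⁻¹) = 1 := by
      rw [hker]
      refine ⟨d, ?_⟩
      have h2 : ι y * ι y⁻¹ = 1 := by rw [← map_mul, mul_inv_cancel, map_one]
      rw [map_mul, hd, smul_mul_assoc, h2]
    rw [map_mul, map_inv] at h1
    exact mul_inv_eq_one.1 h1
  have hsc : ∀ (x y : K), π x = π y → ∃ d : F, d ^ 3 = 1 ∧ ι x = d • ι y := by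
    intro x y hxy
    have h1 : π (x * y⁻¹) = 1 := by rw [map_mul, map_inv, hxy, mul_inv_cancel]
    obtain ⟨d, hd⟩ := (hker _).1 h1
    have h2 : ι x = d • ι y := by
      have h4 : x = x * y⁻¹ * y := by group
      conv_lhs => rw [h4]
      rw [map_mul, hd, smul_mul_assoc, one_mul]
    refine ⟨d, ?_, h2⟩
    have h4 := congrArg Matrix.det hd
    rw [hdet, det_smul, det_one, mul_one, Fintype.card_fin] at h4
    exact h4.symm
  have c3 : ∀ x : K, π x ^ 3 = π (x * x * x) := fun x => by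
    rw [map_mul, map_mul, pow_succ, pow_two]
  refine qrow_of (X := X) h9 (s := π a) (t := π b) (f := π f) (h := π h) ?_ ?_ ?_ ?_ ?_ ?_ ?_ ?_ ?_ ?_ hdeg
  · rw [c3, ← map_one π]
    exact heq _ _ 1 (by rw [map_mul, map_mul, ha, map_one, A3 hw, one_smul])
  · rw [c3, ← map_one π]
    exact heq _ _ 1 (by rw [map_mul, map_mul, hb, map_one, B3, one_smul])
  · intro h1
    obtain ⟨d, hd⟩ := (hker _).1 h1
    rw [ha] at hd
    have e1 := congrFun (congrFun hd 0) 0
    have e2 := congrFun (congrFun hd 1) 1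
    simp [mA] at e1 e2
    exact hw1 (e2.trans e1.symm)
  · rw [← map_mul, ← map_mul]
    exact heq _ _ w (by rw [map_mul, map_mul, ha, hb, AB hw])
  · intro h1
    obtain ⟨n, hn⟩ := (mem_powers_iff_mem_zpowers.2 h1)
    have h2 : π (a ^ n) = π b := by rw [map_pow]; exact hn
    obtain ⟨d, hd3, hd⟩ := hsc _ _ h2
    rw [map_pow, ha, hb] at hd
    have e1 := congrFun (congrFun hd 1) 0
    rw [mA_pow] at e1
    simp [mB] at e1
    rw [← e1] at hd3
    simp at hd3
  · rw [mul_inv_eq_iff_eq_mul, eq_inv_mul_iff_mul_eq, ← map_mul, ← map_mul]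
    exact heq _ _ 1 (by rw [map_mul, map_mul, ha, hb, hf, one_smul, ← mul_assoc, BFA hw])
  · rw [mul_inv_eq_iff_eq_mul, ← map_mul, ← map_mul]
    exact heq _ _ 1 (by rw [map_mul, map_mul, ha, hb, hf, one_smul, FB hw])
  · rw [mul_inv_eq_iff_eq_mul]
    have e2 : π b * (π a * (π h * π a)) = π h := by
      rw [← map_mul, ← map_mul, ← map_mul]
      exact heq _ _ 1 (by rw [map_mul, map_mul, map_mul, ha, hb, hh, one_smul, ← mul_assoc, ← mul_assoc, BAHA hw])
    calc π h * π a = (π a)⁻¹ * ((π b)⁻¹ * (π b * (π a * (π h * π a)))) := by group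
      _ = (π a)⁻¹ * (π b)⁻¹ * π h := by rw [e2]; group
  · rw [mul_inv_eq_iff_eq_mul]
    have e2 : π a * (π h * π b) = π b * π h := by
      rw [← map_mul, ← map_mul, ← map_mul]
      exact heq _ _ (w ^ 2) (by rw [map_mul, map_mul, map_mul, ha, hb, hh, ← mul_assoc, AHB hw])
    calc π h * π b = (π a)⁻¹ * (π a * (π h * π b)) := by group
      _ = (π a)⁻¹ * π b * π h := by rw [e2]; group
  · intro z h1 h2
    obtain ⟨k, rfl⟩ := hπ z
    rw [← map_mul, ← map_mul] at h1 h2
    obtain ⟨d, hd3, hd⟩ := hsc _ _ h1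
    obtain ⟨e, he3, he⟩ := hsc _ _ h2
    rw [map_mul, map_mul, ha] at hd
    rw [map_mul, map_mul, hb] at he
    set N : Matrix (Fin 3) (Fin 3) F := ι k with hN
    rw [c3, hker]
    have key : ∀ (C : Matrix (Fin 3) (Fin 3) F) (r : F), r ^ 3 = 1 → N * C = r • (C * N) →
        (N * N * N) * C = C * (N * N * N) := by
      intro C r hr hC
      have k1 : N * N * C = (r * r) • (C * N * N) := by
        rw [mul_assoc, hC, mul_smul_comm, ← mul_assoc, hC, smul_mul_assoc, smul_smul]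
      rw [mul_assoc N N N, mul_assoc N, mul_assoc N N C, ← mul_assoc N N C, k1, mul_smul_comm, ← mul_assoc,
        ← mul_assoc, hC, smul_mul_assoc, smul_mul_assoc, smul_smul,
        show r * r * r = 1 by rw [← hr, pow_succ, pow_two], one_smul]
      simp only [mul_assoc]
    have h5 := scalar_of_comm hw h3 (key _ _ hd3 hd) (key _ _ he3 he)
    exact ⟨(N * N * N) 0 0, by rw [map_mul, map_mul]; exact h5⟩

end mat

end Cfsg.Agent.H596.T9
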